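import Groth.Agent.S7982
import Groth.Agent.S14592
import Groth.Agent.Lib.Chev24.SemiAb
import Groth.Agent.Lib.Chev24.PerfChev
import Groth.Agent.Lib.Flag27.CentBC
import Groth.Agent.Lib.Rigidity.SemiAbelian
import Groth.Agent.Lib.IsogGaGm24.Basic
import Groth.Agent.Lib.Dim.QuasiFinite
import Groth.Agent.Lib.AffPart16.Basic
import Groth.Agent.Lib.DiagGrp.SubgroupEq

/-! Largest semi-abelian subgroup of a commutative group. -/

set_option autoImplicit false

universe u

open CategoryTheory CategoryTheory.Limits MonoidalCategory CartesianMonoidalCategory MonObj GrpObj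
open AlgebraicGeometry Topology

noncomputable section

namespace GrothLib.SemiAbMax16

variable {k : Type u} [Field k]

local notation "φK" => Spec.map (CommRingCat.ofHom (algebraMap k (AlgebraicClosure k)))

/-- An extension of a proper smooth connected group by a torus. -/
def IsSab (S : Over (Spec (CommRingCat.of k))) [GrpObj S] : Prop :=
  ∃ (T : Over (Spec (CommRingCat.of k))) (_ : GrpObj T) (i : T ⟶ S) (A : Over (Spec (CommRingCat.of k))) (_ : GrpObj A) (q : S ⟶ A),
    IsMonHom i ∧ IsClosedImmersion i.left ∧ Red.IsTorus T ∧ IsMonHom q ∧ Surjective q.left ∧ Flat q.left ∧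
    AlgGrp.IsKernel i q ∧ IsProper A.hom ∧ Smooth A.hom ∧ ConnectedSpace ↥A.left

/-- No unipotent group maps to the base change to an algebraic closure. -/
def NU (S : Over (Spec (CommRingCat.of k))) [GrpObj S] : Prop :=
  Chev24.NoUnipHom (Red.bc φK S)

/-- The base change of a surjective flat morphism. -/
theorem flat_surj_bc {X Y : Over (Spec (CommRingCat.of k))} (p : X ⟶ Y) [Flat p.left] [Surjective p.left] :
    Flat ((Over.pullback φK).map p).left ∧ Surjective ((Over.pullback φK).map p).left := by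
  have hsq : IsPullback ((Over.pullback φK).map p).left (pullback.fst X.hom φK) (pullback.fst Y.hom φK) p.left :=
    IsPullback.of_right (h₁₂ := (Red.bc φK Y).hom) (v₁₃ := φK) (h₂₂ := Y.hom)
      (by rw [Over.w, Over.w]; exact (IsPullback.of_hasPullback X.hom φK).flip)
      (pullback.lift_fst _ _ _) (IsPullback.of_hasPullback Y.hom φK).flip
  exact ⟨MorphismProperty.of_isPullback hsq.flip ‹Flat p.left›, MorphismProperty.of_isPullback hsq.flip ‹Surjective p.left›⟩

/-- A semi-abelian group is smooth and connected. -/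
theorem IsSab.geom {S : Over (Spec (CommRingCat.of k))} [GrpObj S] [LocallyOfFiniteType S.hom] [QuasiCompact S.hom]
    (h : IsSab S) : Smooth S.hom ∧ ConnectedSpace S.left := by
  obtain ⟨T, _, i, A, _, q, hi, hic, hT, hq, hqs, hqf, hk, hAp, hAs, hAc⟩ := h
  haveI := hi; haveI := hic; haveI := hq; haveI := hqs; haveI := hqf; haveI := hAp; haveI := hAs; haveI := hAc
  haveI : LocallyOfFiniteType T.hom := by rw [← Over.w i]; infer_instance
  haveI : QuasiCompact T.hom := by rw [← Over.w i]; infer_instance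
  obtain ⟨h1, h2⟩ := Rigidity.smooth_connected_of_isTorus T hT
  obtain ⟨-, hs, hc⟩ := Groth.Agent.S7982.result k T S A i q hk
  exact ⟨hs h1 inferInstance, hc h2 inferInstance⟩

/-- A semi-abelian group receives no unipotent group geometrically. -/
theorem IsSab.nu {S : Over (Spec (CommRingCat.of k))} [GrpObj S] (h : IsSab S) : NU S := by
  obtain ⟨T, _, i, A, _, q, hi, hic, hT, hq, hqs, hqf, hk, hAp, hAs, hAc⟩ := h
  haveI := hi; haveI := hic; haveI := hq; haveI := hAp
  haveI : Mono i := Over.mono_of_mono_left i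
  haveI : (Over.pullback φK).IsRightAdjoint := (Over.mapPullbackAdj φK).isRightAdjoint
  haveI : IsProper (Red.bc φK A).hom := inferInstanceAs (IsProper (pullback.snd A.hom φK))
  refine Chev24.NoUnipHom.extension ((Over.pullback φK).map i) ((Over.pullback φK).map q)
    (Chev24.isKernel_bc φK i q hk) ?_ ?_
  · intro U _ v hv hU _ _
    haveI := hv
    exact Chev24.unip_to_torus_eq_one hU (Flag27.isTorus_bc_field φK hT) v
  · intro U _ v hv hU hUs hUc
    haveI := hv; haveI := hUs; haveI := hUc; haveI := Chev24.isAffine_of_isUnip hU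
    exact Chev24.hom_affine_proper_eq_one v

/-- Conversely. -/
theorem NU.isSab {S : Over (Spec (CommRingCat.of k))} [GrpObj S] [Smooth S.hom] [QuasiCompact S.hom]
    [ConnectedSpace S.left] (h : NU S) : IsSab S := by
  haveI : Smooth (Red.bc φK S).hom := Flag27.smooth_bc φK S
  haveI : QuasiCompact (Red.bc φK S).hom := inferInstanceAs (QuasiCompact (pullback.snd S.hom φK))
  haveI : ConnectedSpace (Red.bc φK S).left := Flag27.connectedSpace_bc φK S
  exact Groth.Agent.S14592.result k S (Chev24.NoUnipHom.isSemiAb h)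

/-- The trivial group is semi-abelian. -/
theorem nu_unit : NU (𝟙_ (Over (Spec (CommRingCat.of k)))) := by
  intro U _ v _ _ _ _
  haveI : IsIso (Red.bc φK (𝟙_ (Over (Spec (CommRingCat.of k))))).hom :=
    inferInstanceAs (IsIso (pullback.snd (𝟙 (Spec (CommRingCat.of k))) φK))
  exact Over.OverMorphism.ext ((cancel_mono (Red.bc φK (𝟙_ (Over (Spec (CommRingCat.of k))))).hom).1 (by rw [Over.w, Over.w]))

variable {G : Over (Spec (CommRingCat.of k))} [GrpObj G] [IsCommMonObj G] [LocallyOfFiniteType G.hom] [QuasiCompact G.hom]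

/-- The image of two semi-abelian subgroups. -/
theorem exists_sup {S₁ S₂ : Over (Spec (CommRingCat.of k))} [GrpObj S₁] [GrpObj S₂] [Smooth S₁.hom]
    [QuasiCompact S₁.hom] [ConnectedSpace S₁.left] [Smooth S₂.hom] [QuasiCompact S₂.hom] [ConnectedSpace S₂.left]
    (h₁ : NU S₁) (h₂ : NU S₂) (s₁ : S₁ ⟶ G) [IsMonHom s₁] (s₂ : S₂ ⟶ G) [IsMonHom s₂] :
    ∃ (I : Over (Spec (CommRingCat.of k))) (_ : GrpObj I) (j : I ⟶ G) (_ : IsMonHom j) (_ : IsClosedImmersion j.left)
      (_ : Smooth I.hom) (_ : QuasiCompact I.hom) (_ : ConnectedSpace I.left), NU I ∧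
        (∃ f, f ≫ j = s₁) ∧ (∃ f, f ≫ j = s₂) := by
  haveI : IsSeparated G.hom := GrpSchField.isSeparated G
  haveI : Smooth (S₁ ⊗ S₂).hom := by
    show Smooth (pullback.fst S₁.hom S₂.hom ≫ S₁.hom); infer_instance
  haveI : QuasiCompact (S₁ ⊗ S₂).hom := by
    show QuasiCompact (pullback.fst S₁.hom S₂.hom ≫ S₁.hom); infer_instance
  haveI : IsMonHom (snd S₁ S₂) := DiagGrp.isMonHom_of_points (snd S₁ S₂) fun T a b => MonObj.mul_comp a b _
  haveI hsecs : Surjective (snd S₁ S₂).left := by
    haveI : Surjective S₁.hom := ⟨fun p => ⟨η[S₁].left.base (IsLocalRing.closedPoint k),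
      Subsingleton.elim (α := ↥(Spec (CommRingCat.of k))) _ _⟩⟩
    exact inferInstanceAs (Surjective (pullback.snd S₁.hom S₂.hom))
  haveI : Flat (snd S₁ S₂).left := inferInstanceAs (Flat (pullback.snd S₁.hom S₂.hom))
  let e₁ : S₁ ⟶ S₁ ⊗ S₂ := lift (𝟙 S₁) 1
  haveI : IsMonHom e₁ := DiagGrp.isMonHom_of_points e₁ fun T a b => by
    refine CartesianMonoidalCategory.hom_ext _ _ ?_ ?_ <;> simp [e₁, MonObj.mul_comp]
  haveI : Mono e₁ := ⟨fun a b hab => by simpa [e₁] using congrArg (· ≫ fst S₁ S₂) hab⟩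
  have hk : AlgGrp.IsKernel e₁ (snd S₁ S₂) := by
    refine IsPullback.of_isLimit' ⟨by simp [e₁, Hom.one_def]⟩ (PullbackCone.isLimitAux _
      (fun s => s.fst ≫ fst S₁ S₂) ?_ (fun s => toUnit_unique _ _) ?_)
    · intro s
      show (s.fst ≫ fst S₁ S₂) ≫ e₁ = s.fst
      refine CartesianMonoidalCategory.hom_ext _ _ (by simp [e₁]) ?_
      simp only [e₁, Category.assoc, lift_snd, MonObj.comp_one]
      rw [Hom.one_def, toUnit_unique (toUnit s.pt) s.snd]
      exact s.condition.symm
    · intro s m hm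
      have e : m ≫ e₁ = s.fst := hm WalkingCospan.left
      show m = s.fst ≫ fst S₁ S₂
      rw [← e, Category.assoc]
      exact ((congrArg (m ≫ ·) (lift_fst (𝟙 S₁) _)).trans (Category.comp_id m)).symm
  haveI : ConnectedSpace (S₁ ⊗ S₂).left := by
    obtain ⟨-, -, hc⟩ := Groth.Agent.S7982.result k S₁ (S₁ ⊗ S₂) S₂ e₁ (snd S₁ S₂) hk
    exact hc inferInstance inferInstance
  let μ' : S₁ ⊗ S₂ ⟶ G := (fst S₁ S₂ ≫ s₁) * (snd S₁ S₂ ≫ s₂)
  haveI : IsMonHom μ' := DiagGrp.isMonHom_of_points μ' fun T a b => by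
    have hT := (isCommMonObj_iff_isMulCommutative (M := G)).1 inferInstance T
    simp only [μ', MonObj.comp_mul, ← Category.assoc, MonObj.mul_comp]
    exact Commute.mul_mul_mul_comm (hT.is_comm.comm _ _) _ _
  haveI : QuasiCompact μ'.left := by
    haveI : QuasiCompact (μ'.left ≫ G.hom) := by rw [Over.w μ']; infer_instance
    exact QuasiCompact.of_comp _ G.hom
  obtain ⟨I, _, p, j, hp, hj, hpj, hps, hpf, hplfp, hm, hIlft, -⟩ := Neutral.exists_factor_field μ'
  haveI := hp; haveI := hj; haveI := hm; haveI := hps; haveI := hpf; haveI := hplfp; haveI := hIlft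
  haveI := (Neutral.isClosedImmersion_factor μ' hpj).1
  haveI : Smooth I.hom := GrothLib.FppfSource.fppfSourceDescends_smooth p.left I.hom hpf hplfp hps
    (by rw [Over.w p]; infer_instance)
  haveI : ConnectedSpace I.left := p.left.surjective.connectedSpace p.left.continuous
  haveI : QuasiCompact I.hom := by rw [← Over.w j]; infer_instance
  refine ⟨I, inferInstance, j, hj, inferInstance, inferInstance, inferInstance, inferInstance, ?_,
    ⟨e₁ ≫ p, ?_⟩, ⟨lift 1 (𝟙 S₂) ≫ p, ?_⟩⟩
  · -- no unipotent group maps to the image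
    haveI : Smooth (Red.bc φK (S₁ ⊗ S₂)).hom := Flag27.smooth_bc φK _
    haveI : Smooth (Red.bc φK I).hom := Flag27.smooth_bc φK I
    haveI : QuasiCompact (Red.bc φK (S₁ ⊗ S₂)).hom := inferInstanceAs (QuasiCompact (pullback.snd (S₁ ⊗ S₂).hom φK))
    haveI : QuasiCompact (Red.bc φK I).hom := inferInstanceAs (QuasiCompact (pullback.snd I.hom φK))
    haveI : ConnectedSpace (Red.bc φK (S₁ ⊗ S₂)).left := Flag27.connectedSpace_bc φK _
    haveI : ConnectedSpace (Red.bc φK I).left := Flag27.connectedSpace_bc φK I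
    haveI : (Over.pullback φK).IsRightAdjoint := (Over.mapPullbackAdj φK).isRightAdjoint
    have hprod : Chev24.NoUnipHom (Red.bc φK (S₁ ⊗ S₂)) :=
      Chev24.NoUnipHom.extension ((Over.pullback φK).map e₁) ((Over.pullback φK).map (snd S₁ S₂))
        (Chev24.isKernel_bc φK e₁ (snd S₁ S₂) hk) h₁ h₂
    obtain ⟨hf', hs'⟩ := flat_surj_bc p
    haveI := hf'; haveI := hs'
    exact Chev24.IsSemiAb.noUnipHom (Chev24.IsSemiAb.quotient hprod.isSemiAb ((Over.pullback φK).map p))
  · rw [Category.assoc, hpj]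
    simp [e₁, μ', MonObj.comp_mul, MonObj.one_comp]
  · rw [Category.assoc, hpj]
    simp [μ', MonObj.comp_mul, MonObj.one_comp]

variable (G) in
/-- Dimensions of semi-abelian subgroups. -/
def SabDim (d : ℕ) : Prop :=
  ∃ (S : Over (Spec (CommRingCat.of k))) (_ : GrpObj S) (s : S ⟶ G), IsMonHom s ∧ IsClosedImmersion s.left ∧
    Smooth S.hom ∧ QuasiCompact S.hom ∧ ConnectedSpace S.left ∧ NU S ∧ topologicalKrullDim S.left = (d : WithBot ℕ∞)

variable (G) in
theorem exists_sabDim : ∃ d, SabDim G d := by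
  haveI : IsSeparated G.hom := GrpSchField.isSeparated G
  haveI := GrothLib.GrpSchField.unit_isClosedImmersion G
  haveI : Smooth (𝟙_ (Over (Spec (CommRingCat.of k)))).hom := inferInstanceAs (Smooth (𝟙 (Spec (CommRingCat.of k))))
  haveI : QuasiCompact (𝟙_ (Over (Spec (CommRingCat.of k)))).hom := inferInstanceAs (QuasiCompact (𝟙 (Spec (CommRingCat.of k))))
  haveI : IsIntegral (𝟙_ (Over (Spec (CommRingCat.of k)))).left := inferInstanceAs (IsIntegral (Spec (CommRingCat.of k)))
  obtain ⟨d, hd⟩ := Chev24.exists_nat_dim (k := k) (𝟙_ (Over (Spec (CommRingCat.of k))))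
  exact ⟨d, _, inferInstance, η[G], inferInstance, inferInstance, inferInstance, inferInstance, inferInstance, nu_unit, hd⟩

variable (G) in
/-- A largest semi-abelian subgroup. -/
theorem exists_largest :
    ∃ (S : Over (Spec (CommRingCat.of k))) (_ : GrpObj S) (s : S ⟶ G), IsMonHom s ∧ IsClosedImmersion s.left ∧ IsSab S ∧
      ∀ (S' : Over (Spec (CommRingCat.of k))) [GrpObj S'] (s' : S' ⟶ G) [IsMonHom s'] [IsClosedImmersion s'.left],
        IsSab S' → ∃ g : S' ⟶ S, g ≫ s = s' := by
  classical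
  haveI : IsLocallyNoetherian G.left := LocallyOfFiniteType.isLocallyNoetherian G.hom
  obtain ⟨n, hn⟩ : ∃ n : ℕ, ∀ d, SabDim G d → d ≤ n := by
    haveI : CompactSpace G.left := QuasiCompact.compactSpace_of_compactSpace G.hom
    haveI : AlgebraicGeometry.IsNoetherian G.left := {}
    let C := TopologicalSpace.NoetherianSpace.finite_irreducibleComponents (α := G.left)
    have hdim : ∀ Z ∈ irreducibleComponents G.left, ∃ m : ℕ, topologicalKrullDim Z = (m : WithBot ℕ∞) := fun Z hZ =>
      (Dim.exists_nat_dim_irreducible G.hom (isClosed_of_mem_irreducibleComponents Z hZ) hZ.1).imp fun _ h => h.1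
    choose m hm using hdim
    refine ⟨C.toFinset.attach.sup fun Z => m Z.1 (C.mem_toFinset.1 Z.2), ?_⟩
    rintro d ⟨S, _, s, _, hc, hSs, _, hSc, _, hd⟩
    haveI := hc; haveI := hSs; haveI := hSc
    haveI : IsIntegral S.left := IsogGaGm24.isIntegral_of_smooth S
    obtain ⟨Z, hZ, hsZ⟩ := exists_mem_irreducibleComponents_subset_of_isIrreducible (Set.range s.left.base)
      (by rw [← Set.image_univ]; exact (IrreducibleSpace.isIrreducible_univ S.left).image _ s.left.continuous.continuousOn)
    have h1 : topologicalKrullDim S.left ≤ topologicalKrullDim Z := by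
      have hind : IsInducing (fun x : S.left => (⟨s.left.base x, hsZ ⟨x, rfl⟩⟩ : Z)) :=
        IsInducing.of_comp (s.left.continuous.subtype_mk _) continuous_subtype_val s.left.isEmbedding.isInducing
      exact hind.topologicalKrullDim_le
    rw [hd, hm Z hZ] at h1
    have h2 : d ≤ m Z hZ := by exact_mod_cast h1
    exact h2.trans (Finset.le_sup (f := fun W : C.toFinset => m W.1 (C.mem_toFinset.1 W.2))
      (Finset.mem_attach C.toFinset ⟨Z, C.mem_toFinset.2 hZ⟩))
  obtain ⟨d₀, hd₀⟩ := exists_sabDim G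
  obtain ⟨d, hd, hmax⟩ : ∃ d, SabDim G d ∧ ∀ d', SabDim G d' → d' ≤ d :=
    ⟨Nat.findGreatest (SabDim G) n, Nat.findGreatest_spec (hn d₀ hd₀) hd₀,
      fun d' hd' => Nat.le_findGreatest (hn d' hd') hd'⟩
  obtain ⟨S, _, s, hs, hsc, hSs, hSq, hSc, hSn, hSd⟩ := hd
  haveI := hs; haveI := hsc; haveI := hSs; haveI := hSq; haveI := hSc
  refine ⟨S, inferInstance, s, hs, hsc, hSn.isSab, fun S' _ s' _ _ hS' => ?_⟩
  haveI : LocallyOfFiniteType S'.hom := by rw [← Over.w s']; infer_instance
  haveI : QuasiCompact S'.hom := by rw [← Over.w s']; infer_instance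
  obtain ⟨h1, h2⟩ := hS'.geom
  haveI := h1; haveI := h2
  obtain ⟨I, _, j, hj, hjc, hIs, hIq, hIc, hIn, ⟨f, hf⟩, ⟨f', hf'⟩⟩ := exists_sup hSn hS'.nu s s'
  haveI := hjc; haveI := hIs; haveI := hIc
  haveI : IsIntegral I.left := IsogGaGm24.isIntegral_of_smooth I
  obtain ⟨e, he⟩ := Chev24.exists_nat_dim (k := k) I
  have hle : e ≤ d := hmax e ⟨I, inferInstance, j, hj, hjc, hIs, hIq, hIc, hIn, he⟩
  haveI : IsClosedImmersion (f.left ≫ j.left) := by rw [← Over.comp_left, hf]; exact hsc
  haveI : IsClosedImmersion f.left := IsClosedImmersion.of_comp f.left j.left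
  have hrd : topologicalKrullDim (Set.range f.left.base) = (d : WithBot ℕ∞) := by
    rw [← hSd]
    exact (IsHomeomorph.topologicalKrullDim_eq _ f.left.isEmbedding.toHomeomorph.isHomeomorph).symm
  haveI : Surjective f.left := ⟨Set.range_eq_univ.1 (Dim.eq_univ_of_dim_le f.left.isClosedEmbedding.isClosed_range
    (by rw [hrd, he]; exact_mod_cast hle) hrd)⟩
  haveI : IsReduced I.left := inferInstance
  haveI : IsIso ((Over.forget _).map f) := isIso_of_isClosedImmersion_of_surjective f.left
  haveI : IsIso f := isIso_of_reflects_iso f (Over.forget _)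
  exact ⟨f' ≫ inv f, by rw [Category.assoc, ← hf, IsIso.inv_hom_id_assoc, hf']⟩

variable {S : Over (Spec (CommRingCat.of k))} [GrpObj S] (s : S ⟶ G) [IsMonHom s] [IsClosedImmersion s.left]

/-- The quotient by the largest semi-abelian subgroup has none. -/
theorem quot_trivial (hS : IsSab S)
    (hmax : ∀ (S' : Over (Spec (CommRingCat.of k))) [GrpObj S'] (s' : S' ⟶ G) [IsMonHom s'] [IsClosedImmersion s'.left],
        IsSab S' → ∃ g : S' ⟶ S, g ≫ s = s')
    {Q : Over (Spec (CommRingCat.of k))} [GrpObj Q] [LocallyOfFiniteType Q.hom] [QuasiCompact Q.hom] (q : G ⟶ Q) [IsMonHom q]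
    [Surjective q.left] [Flat q.left] (hk : AlgGrp.IsKernel s q)
    {U : Over (Spec (CommRingCat.of k))} [GrpObj U] (u : U ⟶ Q) [IsMonHom u] [IsClosedImmersion u.left]
    (hU : IsSab U) : IsIso η[U] := by
  haveI : IsSeparated G.hom := GrpSchField.isSeparated G
  haveI : IsSeparated Q.hom := GrpSchField.isSeparated Q
  haveI : Mono u := Over.mono_of_mono_left u
  haveI : LocallyOfFiniteType S.hom := by rw [← Over.w s]; infer_instance
  haveI : QuasiCompact S.hom := by rw [← Over.w s]; infer_instance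
  haveI : LocallyOfFiniteType U.hom := by rw [← Over.w u]; infer_instance
  haveI : QuasiCompact U.hom := by rw [← Over.w u]; infer_instance
  obtain ⟨hSs, hSc⟩ := hS.geom
  obtain ⟨hUs, hUc⟩ := hU.geom
  haveI := hSs; haveI := hSc; haveI := hUs; haveI := hUc
  let P : Over (Spec (CommRingCat.of k)) := Over.mk (pullback.snd u.left q.left ≫ G.hom)
  let b : P ⟶ G := Over.homMk (pullback.snd u.left q.left) rfl
  let a : P ⟶ U := Over.homMk (pullback.fst u.left q.left) (by
    show pullback.fst u.left q.left ≫ U.hom = pullback.snd u.left q.left ≫ G.hom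
    rw [← Over.w u, pullback.condition_assoc, Over.w q])
  have hsqL : IsPullback a.left b.left u.left q.left := IsPullback.of_hasPullback u.left q.left
  have hsq : IsPullback a b u q := IsPullback.of_map (Over.forget _) (Over.OverMorphism.ext hsqL.w) hsqL
  haveI : IsClosedImmersion b.left := inferInstanceAs (IsClosedImmersion (pullback.snd u.left q.left))
  haveI : Surjective a.left := inferInstanceAs (Surjective (pullback.fst u.left q.left))
  haveI : Flat a.left := inferInstanceAs (Flat (pullback.fst u.left q.left))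
  obtain ⟨hP, ha, hb⟩ := GrothLib.SubPre14.exists_grpObj_pullback q u a b hsq
  haveI := ha; haveI := hb
  haveI : Mono b := Over.mono_of_mono_left b
  haveI : LocallyOfFiniteType P.hom := by rw [← Over.w b]; infer_instance
  haveI : QuasiCompact P.hom := by rw [← Over.w b]; infer_instance
  have h1 : (1 : S ⟶ U) ≫ u = s ≫ q := by rw [MonObj.one_comp, hk.w, ← Hom.one_def]
  let c : S ⟶ P := hsq.lift 1 s h1
  haveI : IsMonHom c := GrothLib.GrpSchField.isMonHom_of_mul c (by
    rw [← cancel_mono b, Category.assoc, hsq.lift_snd, IsMonHom.mul_hom, Category.assoc, IsMonHom.mul_hom,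
      ← Category.assoc, tensorHom_comp_tensorHom, hsq.lift_snd])
  have hkc : AlgGrp.IsKernel c a := by
    have hout : IsPullback (c ≫ b) (toUnit S) q (η[U] ≫ u) := by
      rw [hsq.lift_snd, IsMonHom.one_hom]; exact hk
    exact IsPullback.of_right hout (by rw [hsq.lift_fst, Hom.one_def]) hsq.flip
  haveI : IsClosedImmersion c.left := by
    haveI : IsClosedImmersion (c.left ≫ b.left) := by rw [← Over.comp_left, hsq.lift_snd]; infer_instance
    exact IsClosedImmersion.of_comp c.left b.left
  obtain ⟨-, hPs, hPc⟩ := Groth.Agent.S7982.result k S P U c a hkc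
  haveI := hPs inferInstance inferInstance
  haveI := hPc inferInstance inferInstance
  haveI : (Over.pullback φK).IsRightAdjoint := (Over.mapPullbackAdj φK).isRightAdjoint
  haveI : Mono c := Over.mono_of_mono_left c
  have hPn : NU P := Chev24.NoUnipHom.extension ((Over.pullback φK).map c) ((Over.pullback φK).map a)
    (Chev24.isKernel_bc φK c a hkc) hS.nu hU.nu
  obtain ⟨g, hg⟩ := hmax P b hPn.isSab
  have ha1 : a = 1 := by
    rw [← cancel_mono u, hsq.w, ← hg, Category.assoc, GrpSchField.comp_eq_one hk, MonObj.comp_one, MonObj.one_comp]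
  haveI : LocallyOfFinitePresentation a.left := AlbTors16.lfp_of_surj a
  haveI : QuasiCompact a.left := by
    haveI : IsSeparated U.hom := GrpSchField.isSeparated U
    haveI : QuasiCompact (a.left ≫ U.hom) := by rw [Over.w a]; infer_instance
    exact QuasiCompact.of_comp _ U.hom
  haveI : Epi a.left := Flat.epi_of_flat_of_surjective _
  haveI : Epi a := (Over.forget _).epi_of_epi_map (inferInstanceAs (Epi a.left))
  have hid : (1 : U ⟶ U) = 𝟙 U := by
    rw [← cancel_epi a, MonObj.comp_one, Category.comp_id, ha1]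
  exact ⟨toUnit U, toUnit_unique _ _, by rw [← Hom.one_def, hid]⟩

end GrothLib.SemiAbMax16
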